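import Mathlib
import Cfsg.Agent.Lib.Helper31.CTI.Defs
import Cfsg.Agent.Lib.Helper21.StronglyEmbedded

/-!
# Project CTI (S4064, helper31's sheet): module [E-HOMOCYC] in `_of` form (helper95, hedge)

`cdata_comm_of_card_sq_of`: in the configuration `CData M N` with `M` a `2`-group of order `|E|²`
(`E` = the elements of `M` of order `≤ 2`), `M` is abelian.  Hypotheses taken from upstream modules:
`hinv` = [C-INV] (`cdata_involution`), `htr` = `N` is transitive on its involutions ([C-SE] + landed S1225).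
-/

set_option autoImplicit false

namespace Cfsg.Agent.Lib.Helper31.CTI

open Cfsg

variable {G : Type*} [Group G] {M N : Subgroup G}

/-- a commuting generating set generates an abelian subgroup -/
theorem h95_closure_comm {S : Set G} (hS : ∀ s ∈ S, ∀ s' ∈ S, s * s' = s' * s) :
    ∀ a ∈ Subgroup.closure S, ∀ b ∈ Subgroup.closure S, a * b = b * a := by
  have h1 : Subgroup.closure S ≤ Subgroup.centralizer S := by
    rw [Subgroup.closure_le]
    intro s hs
    rw [SetLike.mem_coe, Subgroup.mem_centralizer_iff]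
    intro s' hs'
    exact hS s' hs' s hs
  intro a ha b hb
  have h2 : Subgroup.closure S ≤ Subgroup.centralizer ({a} : Set G) := by
    rw [Subgroup.closure_le]
    intro s hs
    rw [SetLike.mem_coe, Subgroup.mem_centralizer_iff]
    intro a' ha'
    rw [Set.mem_singleton_iff] at ha'
    subst ha'
    have := Subgroup.mem_centralizer_iff.1 (h1 ha) s hs
    exact this.symm
  have := Subgroup.mem_centralizer_iff.1 (h2 hb) a (Set.mem_singleton a)
  exact this

/-- an `N`-invariant nontrivial subgroup of the `2`-group `M` contains all elements of order `≤ 2` of `M` -/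
theorem h95_invariant_contains [Finite G] (hMN : M ≤ N) (h2 : IsPGroup 2 M)
    (htr : ∀ s ∈ N, ∀ t ∈ N, orderOf s = 2 → orderOf t = 2 → ∃ n ∈ N, n * s * n⁻¹ = t)
    (Y : Subgroup G) (hYM : Y ≤ M) (hY : Y ≠ ⊥) (hinvar : ∀ n ∈ N, ∀ y ∈ Y, n * y * n⁻¹ ∈ Y) :
    ∀ t ∈ M, t ^ 2 = 1 → t ∈ Y := by
  -- an involution in `Y`
  have hY2 : IsPGroup 2 Y := h2.to_le hYM
  have : Fact (Nat.Prime 2) := ⟨Nat.prime_two⟩
  obtain ⟨k, hk⟩ := hY2.exists_card_eq
  have hk1 : k ≠ 0 := by
    rintro rfl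
    rw [pow_zero] at hk
    exact hY (Subgroup.card_eq_one.1 hk)
  have hdvd : 2 ∣ Nat.card Y := by
    rw [hk]
    exact dvd_pow_self 2 hk1
  obtain ⟨y, hy⟩ := exists_prime_orderOf_dvd_card' 2 hdvd
  have hyo : orderOf (y : G) = 2 := by rw [Subgroup.orderOf_coe]; exact hy
  intro t htM ht2
  by_cases ht1 : t = 1
  · rw [ht1]; exact Y.one_mem
  · have hto : orderOf t = 2 := orderOf_eq_prime ht2 ht1
    obtain ⟨n, hn, hnt⟩ := htr (y : G) (hMN (hYM y.2)) t (hMN htM) hyo hto
    rw [← hnt]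
    exact hinvar n hn _ y.2

/-- **[E-HOMOCYC]**, `_of` form -/
theorem cdata_comm_of_card_sq_of [Finite G] (hG : IsCTI G) (h : CData M N) (h2 : IsPGroup 2 M)
    (hcard : Nat.card M = (Nat.card {t : G // t ∈ M ∧ t ^ 2 = 1}) ^ 2)
    (hinv : ∀ t ∈ N, orderOf t = 2 → t ∈ M ∧ ∀ m ∈ M, m * t = t * m)
    (htr : ∀ s ∈ N, ∀ t ∈ N, orderOf s = 2 → orderOf t = 2 → ∃ n ∈ N, n * s * n⁻¹ = t) :
    ∀ a ∈ M, ∀ b ∈ M, a * b = b * a := by
  have hMN : M ≤ N := by rw [h.hN]; exact Subgroup.le_normalizer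
  have hNM : ∀ n ∈ N, ∀ m ∈ M, n * m * n⁻¹ ∈ M := by
    intro n hn m hm
    rw [h.hN, Subgroup.mem_set_normalizer_iff] at hn
    exact (hn m).1 hm
  -- elements of order `≤ 2` of `M` are central in `M`
  have hcen : ∀ t ∈ M, t ^ 2 = 1 → ∀ m ∈ M, m * t = t * m := by
    intro t htM ht2 m hm
    by_cases ht1 : t = 1
    · rw [ht1, mul_one, one_mul]
    · exact (hinv t (hMN htM) (orderOf_eq_prime ht2 ht1)).2 m hm
  by_cases hexp : ∀ m ∈ M, m ^ 2 = 1
  · intro a ha b hb
    exact hcen b hb (hexp b hb) a ha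
  push Not at hexp
  obtain ⟨x, hxM, hx2⟩ := hexp
  -- an involution `t₀` of `M`
  have hM1 : M ≠ ⊥ := h.nice.ne_bot
  have hE0 := h95_invariant_contains hMN h2 htr M le_rfl hM1 hNM
  have : Fact (Nat.Prime 2) := ⟨Nat.prime_two⟩
  have hdvdM : 2 ∣ Nat.card M := even_iff_two_dvd.1 h.even
  obtain ⟨t₀', ht₀'⟩ := exists_prime_orderOf_dvd_card' 2 hdvdM
  set t₀ : G := (t₀' : G) with ht₀def
  have ht₀o : orderOf t₀ = 2 := by rw [ht₀def, Subgroup.orderOf_coe]; exact ht₀'
  have ht₀M : t₀ ∈ M := t₀'.2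
  have ht₀1 : t₀ ≠ 1 := by
    intro h1
    rw [h1, orderOf_one] at ht₀o
    norm_num at ht₀o
  -- `N` normalizes `C(x)`
  set C : Subgroup G := Subgroup.centralizer ({x} : Set G) with hC
  have hmemC : ∀ c : G, c ∈ C ↔ x * c = c * x := by
    intro c
    rw [hC, Subgroup.mem_centralizer_iff]
    constructor
    · intro hh; exact hh x (Set.mem_singleton x)
    · intro hh y hy
      rw [Set.mem_singleton_iff] at hy
      subst hy
      exact hh
  have hNC : ∀ n ∈ N, n ∈ Subgroup.normalizer (C : Set G) := by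
    intro n hn
    by_contra hnot
    have hti := hG x n hnot t₀
    have h1 : t₀ ∈ (C : Set G) := by
      rw [SetLike.mem_coe, hmemC]
      exact hcen t₀ ht₀M (by rw [← ht₀o]; exact pow_orderOf_eq_one t₀) x hxM
    have hconj_o : orderOf (n * t₀ * n⁻¹) = 2 := by
      have := orderOf_injective (MulAut.conj n).toMonoidHom (MulAut.conj n).injective t₀
      rw [← ht₀o, ← this]
      rfl
    have h2' : n * t₀ * n⁻¹ ∈ (C : Set G) := by
      rw [SetLike.mem_coe, hmemC]
      have := (hinv _ (N.mul_mem (N.mul_mem hn (hMN ht₀M)) (N.inv_mem hn)) hconj_o).2 x hxM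
      exact this
    exact ht₀1 (hti h1 h2')
  -- `n x n⁻¹` is central in `C(x)` for `n ∈ N`
  have hZ : ∀ n ∈ N, ∀ c ∈ C, (n * x * n⁻¹) * c = c * (n * x * n⁻¹) := by
    intro n hn c hc
    have hnn := hNC n hn
    rw [Subgroup.mem_set_normalizer_iff] at hnn
    have h1 : n⁻¹ * c * n ∈ (C : Set G) := by
      apply (hnn _).2
      have e : n * (n⁻¹ * c * n) * n⁻¹ = c := by group
      rw [e]
      exact hc
    rw [SetLike.mem_coe, hmemC] at h1
    calc (n * x * n⁻¹) * c = n * (x * (n⁻¹ * c * n)) * n⁻¹ := by group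
      _ = n * ((n⁻¹ * c * n) * x) * n⁻¹ := by rw [h1]
      _ = c * (n * x * n⁻¹) := by group
  have hxC : x ∈ C := (hmemC x).2 rfl
  -- `X = ⟨n x n⁻¹ | n ∈ N⟩`
  set S : Set G := {y | ∃ n ∈ N, y = n * x * n⁻¹} with hS
  have hScomm : ∀ s ∈ S, ∀ s' ∈ S, s * s' = s' * s := by
    rintro s ⟨n, hn, rfl⟩ s' ⟨n', hn', rfl⟩
    have h1 : n' * x * n'⁻¹ ∈ C := by
      rw [hmemC]
      exact (hZ n' hn' x hxC).symm
    exact hZ n hn _ h1
  set X : Subgroup G := Subgroup.closure S with hX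
  have hXcomm := h95_closure_comm hScomm
  have hxX : x ∈ X := Subgroup.subset_closure ⟨1, N.one_mem, by simp⟩
  have hXM : X ≤ M := by
    rw [hX, Subgroup.closure_le]
    rintro y ⟨n, hn, rfl⟩
    exact hNM n hn x hxM
  have hx1 : x ≠ 1 := by
    intro h1
    apply hx2
    rw [h1, one_pow]
  have hX1 : X ≠ ⊥ := by
    intro hb
    rw [hb, Subgroup.mem_bot] at hxX
    exact hx1 hxX
  have hXinv : ∀ n ∈ N, ∀ y ∈ X, n * y * n⁻¹ ∈ X := by
    intro n hn y hy
    rw [hX] at hy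
    induction hy using Subgroup.closure_induction with
    | mem y hy =>
      obtain ⟨n', hn', rfl⟩ := hy
      exact Subgroup.subset_closure ⟨n * n', N.mul_mem hn hn', by group⟩
    | one => simp
    | mul a b _ _ ha hb =>
      have e : n * (a * b) * n⁻¹ = (n * a * n⁻¹) * (n * b * n⁻¹) := by group
      rw [e]
      exact X.mul_mem ha hb
    | inv a _ ha =>
      have e : n * a⁻¹ * n⁻¹ = (n * a * n⁻¹)⁻¹ := by group
      rw [e]
      exact X.inv_mem ha
  have hEX := h95_invariant_contains hMN h2 htr X hXM hX1 hXinv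
  -- the squaring endomorphism of `X`
  let f : ↥X →* ↥X := MonoidHom.mk' (fun a => a ^ 2) (by
    intro a b
    have hc : Commute a b := by
      apply Subtype.ext
      exact hXcomm a.1 a.2 b.1 b.2
    exact hc.mul_pow 2)
  have hf : ∀ a : ↥X, f a = a ^ 2 := fun _ => rfl
  -- `Y` = the squares
  set Y : Subgroup G := (f.range).map X.subtype with hY
  have hmemY : ∀ y : G, y ∈ Y ↔ ∃ a ∈ X, a ^ 2 = y := by
    intro y
    rw [hY, Subgroup.mem_map]
    constructor
    · rintro ⟨w, ⟨a, rfl⟩, rfl⟩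
      exact ⟨a.1, a.2, by rw [hf]; rfl⟩
    · rintro ⟨a, ha, rfl⟩
      exact ⟨f ⟨a, ha⟩, ⟨⟨a, ha⟩, rfl⟩, by rw [hf]; rfl⟩
  have hYX : Y ≤ X := by
    intro y hy
    obtain ⟨a, ha, rfl⟩ := (hmemY y).1 hy
    exact X.pow_mem ha 2
  have hY1 : Y ≠ ⊥ := by
    intro hb
    have : x ^ 2 ∈ Y := (hmemY _).2 ⟨x, hxX, rfl⟩
    rw [hb, Subgroup.mem_bot] at this
    exact hx2 this
  have hYinv : ∀ n ∈ N, ∀ y ∈ Y, n * y * n⁻¹ ∈ Y := by
    intro n hn y hy
    obtain ⟨a, ha, rfl⟩ := (hmemY y).1 hy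
    refine (hmemY _).2 ⟨n * a * n⁻¹, hXinv n hn a ha, ?_⟩
    rw [conj_pow]
  have hEY := h95_invariant_contains hMN h2 htr Y (le_trans hYX hXM) hY1 hYinv
  -- counting
  set e : ℕ := Nat.card {t : G // t ∈ M ∧ t ^ 2 = 1} with he
  have hfinX : Finite ↥X := inferInstance
  have hker : e ≤ Nat.card f.ker := by
    let g : {t : G // t ∈ M ∧ t ^ 2 = 1} → f.ker := fun t =>
      ⟨⟨t.1, hEX t.1 t.2.1 t.2.2⟩, by
        rw [MonoidHom.mem_ker, hf]
        apply Subtype.ext
        exact t.2.2⟩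
    have hg : Function.Injective g := by
      intro t t' htt
      apply Subtype.ext
      have := congrArg (fun w : f.ker => ((w : ↥X) : G)) htt
      exact this
    exact Nat.card_le_card_of_injective g hg
  have hrange : e ≤ Nat.card f.range := by
    let g : {t : G // t ∈ M ∧ t ^ 2 = 1} → f.range := fun t =>
      ⟨⟨t.1, hEX t.1 t.2.1 t.2.2⟩, by
        obtain ⟨a, ha, hat⟩ := (hmemY t.1).1 (hEY t.1 t.2.1 t.2.2)
        refine ⟨⟨a, ha⟩, ?_⟩
        rw [hf]
        apply Subtype.ext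
        exact hat⟩
    have hg : Function.Injective g := by
      intro t t' htt
      apply Subtype.ext
      have := congrArg (fun w : f.range => ((w : ↥X) : G)) htt
      exact this
    exact Nat.card_le_card_of_injective g hg
  have hXcard : Nat.card ↥X = Nat.card f.ker * Nat.card f.range := by
    rw [← Subgroup.index_ker, Subgroup.card_mul_index]
  have hXge : e ^ 2 ≤ Nat.card ↥X := by
    rw [hXcard, pow_two]
    exact Nat.mul_le_mul hker hrange
  have hXeq : X = M := by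
    apply Subgroup.eq_of_le_of_card_ge hXM
    rw [hcard]
    exact hXge
  intro a ha b hb
  rw [← hXeq] at ha hb
  exact hXcomm a ha b hb

/-- a strongly embedded subgroup is transitive on its involutions (landed S1225 = `Helper21.se_involutions_conj_in_inter`) -/
theorem h95_trans_of_stronglyEmbedded [Finite G] (hSE : Cfsg.IsStronglyEmbedded N) :
    ∀ s ∈ N, ∀ t ∈ N, orderOf s = 2 → orderOf t = 2 → ∃ n ∈ N, n * s * n⁻¹ = t := by
  intro s hsN t htN hs ht
  have hSE' := hSE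
  obtain ⟨hNtop, -, hodd⟩ := hSE
  obtain ⟨g, hg⟩ : ∃ g : G, g ∉ N := by
    by_contra hcon
    push Not at hcon
    exact hNtop (eq_top_iff.2 (fun g _ => hcon g))
  -- `u = g s g⁻¹` is an involution outside `N`
  have huo : orderOf (g * s * g⁻¹) = 2 := by
    have := orderOf_injective (MulAut.conj g).toMonoidHom (MulAut.conj g).injective s
    rw [← hs, ← this]
    rfl
  have huN : g * s * g⁻¹ ∉ N := by
    intro hmem
    have h1 : g * s * g⁻¹ ∈ N ⊓ N.map (MulAut.conj g).toMonoidHom :=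
      Subgroup.mem_inf.2 ⟨hmem, ⟨s, hsN, rfl⟩⟩
    have h2 := hodd g hg
    have h3 : orderOf (⟨g * s * g⁻¹, h1⟩ : ↥(N ⊓ N.map (MulAut.conj g).toMonoidHom)) = 2 := by
      rw [← Subgroup.orderOf_coe]
      exact huo
    have h4 := orderOf_dvd_natCard (⟨g * s * g⁻¹, h1⟩ : ↥(N ⊓ N.map (MulAut.conj g).toMonoidHom))
    rw [h3] at h4
    exact (Nat.not_even_iff_odd.2 h2) (even_iff_two_dvd.2 h4)
  obtain ⟨d, hd, hdst⟩ := Cfsg.Agent.Lib.Helper21.se_involutions_conj_in_inter
    hSE' huo huN hs hsN ht htN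
  exact ⟨d, (Subgroup.mem_inf.1 hd).1, hdst⟩

end Cfsg.Agent.Lib.Helper31.CTI
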